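import Cfsg.Agent.OddHalf.DblR.HexK.KFour
import Cfsg.Agent.WeakTI.PslTwo
import Cfsg.Agent.TwoFusion.SLTwoFacts
import Cfsg.Agent.OddHalf.DblR.CoreOf
import Cfsg.Agent.OddHalf.D4.Input
import Cfsg.Agent.HexStart.HexLong

-- merged: Cfsg.Agent.OddHalf.DblR.HexG.Levi
section

/-!
# `G₂(q)`, `³D₄(q)`: the long root parabolic

`H = ⟨X₁, …, X₇⟩ = Q L`, `Q = ⟨X₂, …, X₆⟩`, `L = ⟨X₁, X₇⟩ ≅ SL₂(E)`, `|E| ≥ 4`.

* `L_simple` : `L` is simple;
* `le_or_le` : if `A`, `B` are commuting subgroups of `H` with `A B = H`, then `A ≤ Q` or `B ≤ Q`;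
* `ind` : `H` is directly indecomposable.
-/

set_option autoImplicit false
set_option maxHeartbeats 400000
set_option linter.unusedSectionVars false

namespace Cfsg.Agent.OddHalf.DblR.HexG

open Subgroup Cfsg.Agent.StdRank2.Hex Cfsg.Agent.StdRank2.Hex.HexTwo Cfsg.Agent.SplitTwo
open scoped commutatorElement

variable {E : Type*} [Field E] {σ : E ≃+* E} {G : Type*} [Group G] {x : ZMod 12 → E → G} (h : HexTwo σ x)
include h

theorem L_le : gen σ x {(1 : ZMod 12), 1 + 6} ≤ gen σ x (arc 1 7) := gen_mono (by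
  rintro l (rfl | rfl)
  · rw [mem_arc]; decide
  · rw [mem_arc]; decide)

theorem Q_le : gen σ x (arc 2 5) ≤ gen σ x (arc 1 7) := gen_mono (by
  intro l hl
  rw [mem_arc] at hl ⊢
  have : ∀ l : ZMod 12, (l - 2).val < 5 → (l - 1).val < 7 := by decide
  exact this l hl)

theorem mem_P1 {g : G} : g ∈ gen σ x (arc 1 7) ↔
    ∃ q ∈ gen σ x (arc 2 5), ∃ l ∈ gen σ x {(1 : ZMod 12), 1 + 6}, g = q * l := h.mem_P 1

/-- `L` is simple. -/
theorem L_simple [Finite E] (h4 : 4 ≤ Nat.card E) (N : Subgroup G) (hN : N ≤ gen σ x {(1 : ZMod 12), 1 + 6})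
    (hn : ∀ l ∈ gen σ x {(1 : ZMod 12), 1 + 6}, ∀ y ∈ N, l * y * l⁻¹ ∈ N) :
    N = ⊥ ∨ N = gen σ x {(1 : ZMod 12), 1 + 6} := by
  classical
  have := Fintype.ofFinite E
  have hch : CharP E 2 := h.charP_two
  rw [← Fintype.card_eq_nat_card] at h4
  have hs : IsSimpleGroup (Matrix.ProjectiveSpecialLinearGroup (Fin 2) E) :=
    Cfsg.Agent.TwoFusion.SLTwoFacts.isSimpleGroup_psl (by omega)
  obtain ⟨e1⟩ := Cfsg.Agent.WeakTI.PslTwo.nonempty_equiv (F := E)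
  obtain ⟨e2⟩ := h.exists_equiv_sl (Par.odd (E := E) (σ := σ) (k := 1) (by decide))
  have hs2 : IsSimpleGroup ↥(gen σ x {(1 : ZMod 12), 1 + 6}) := (e2.symm.trans e1).isSimpleGroup
  have hnorm : (N.subgroupOf (gen σ x {(1 : ZMod 12), 1 + 6})).Normal := by
    refine ⟨fun n hn' g => ?_⟩
    rw [mem_subgroupOf] at hn' ⊢
    exact hn g g.2 n hn'
  rcases hnorm.eq_bot_or_eq_top with h1 | h1
  · left
    rw [subgroupOf_eq_bot, disjoint_iff] at h1
    rw [← h1]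
    exact (inf_eq_left.mpr hN).symm
  · right
    rw [subgroupOf_eq_top] at h1
    exact le_antisymm hN h1

/-- `L ∩ Q = 1` -/
theorem L_inf_Q [Finite E] (h4 : 4 ≤ Nat.card E) :
    gen σ x {(1 : ZMod 12), 1 + 6} ⊓ gen σ x (arc 2 5) = ⊥ := by
  rcases L_simple h h4 (gen σ x {(1 : ZMod 12), 1 + 6} ⊓ gen σ x (arc 2 5)) inf_le_left (by
    rintro l hl y ⟨hy1, hy2⟩
    exact Subgroup.mem_inf.2 ⟨mul_mem (mul_mem hl hy1) (inv_mem hl), h.L_conj 1 hl hy2⟩) with h1 | h1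
  · exact h1
  · exfalso
    have h2 : x 1 1 ∈ gen σ x {(1 : ZMod 12), 1 + 6} ⊓ gen σ x (arc 2 5) := by
      rw [h1]
      exact x_mem_gen (Set.mem_insert _ _) (ok_one σ 1)
    have h3 := h.root_mem_arc (k := 2) (j := 1) (n := 5) (by norm_num) (ok_one σ 1) one_ne_zero h2.2
    rw [mem_arc] at h3
    exact absurd h3 (by decide)

/-- `Q` is normal in `H` -/
theorem Q_normal {g y : G} (hg : g ∈ gen σ x (arc 1 7)) (hy : y ∈ gen σ x (arc 2 5)) :
    g * y * g⁻¹ ∈ gen σ x (arc 2 5) := by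
  obtain ⟨q, hq, l, hl, rfl⟩ := (mem_P1 h).1 hg
  have h1 := h.L_conj 1 hl hy
  have e : q * l * y * (q * l)⁻¹ = q * (l * y * l⁻¹) * q⁻¹ := by group
  rw [e]
  exact mul_mem (mul_mem hq h1) (inv_mem hq)

theorem not_comm [Finite E] : x 1 1 * x 7 1 ≠ x 7 1 * x 1 1 := by
  intro e
  -- the conjugate of `x 1 1` under `nn x 1` is `x 7 1`
  have h1 : nn x 1 * x 1 1 * (nn x 1)⁻¹ = x (8 - 1) 1 := h.refl1 1 1 (ok_one σ 1)
  have e1 : (1 : ZMod 12) + 6 = 7 := by decide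
  have e2 : (8 : ZMod 12) - 1 = 7 := by decide
  have hnn : nn x 1 = x 1 1 * x 7 1 * x 1 1 := by
    unfold nn
    rw [e1]
  have c : Commute (x 1 1) (x 7 1) := e
  rw [hnn, e2] at h1
  have c2 : Commute (x 1 1 * x 7 1 * x 1 1) (x 1 1) :=
    (((Commute.refl _).mul_left c.symm).mul_left (Commute.refl _))
  rw [c2.eq, mul_inv_cancel_right] at h1
  have h2 := h.root_unique (ok_one σ 1) (ok_one σ 7) one_ne_zero h1
  exact absurd h2 (by decide)

theorem le_or_le [Finite E] (h4 : 4 ≤ Nat.card E) {A B : Subgroup G} (hA : A ≤ gen σ x (arc 1 7))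
    (hB : B ≤ gen σ x (arc 1 7)) (hAB : ∀ a ∈ A, ∀ b ∈ B, a * b = b * a)
    (hH : ∀ y ∈ gen σ x (arc 1 7), ∃ a ∈ A, ∃ b ∈ B, y = a * b) :
    A ≤ gen σ x (arc 2 5) ∨ B ≤ gen σ x (arc 2 5) := by
  -- `A` is normal in `H`
  have nA : ∀ y ∈ gen σ x (arc 1 7), ∀ a ∈ A, y * a * y⁻¹ ∈ A := by
    intro y hy a ha
    obtain ⟨a', ha', b, hb, rfl⟩ := hH y hy
    have h1 := hAB a ha b hb
    have e : a' * b * a * (a' * b)⁻¹ = a' * a * a'⁻¹ := by
      calc a' * b * a * (a' * b)⁻¹ = a' * (b * a) * b⁻¹ * a'⁻¹ := by group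
        _ = a' * a * a'⁻¹ := by rw [← h1]; group
    rw [e]
    exact mul_mem (mul_mem ha' ha) (inv_mem ha')
  have nB : ∀ y ∈ gen σ x (arc 1 7), ∀ b ∈ B, y * b * y⁻¹ ∈ B := by
    intro y hy b hb
    obtain ⟨a, ha, b', hb', rfl⟩ := hH y hy
    have h1 := hAB a ha _ (mul_mem (mul_mem hb' hb) (inv_mem hb'))
    have e : a * b' * b * (a * b')⁻¹ = b' * b * b'⁻¹ := by
      calc a * b' * b * (a * b')⁻¹ = (a * (b' * b * b'⁻¹)) * a⁻¹ := by group
        _ = b' * b * b'⁻¹ := by rw [h1]; group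
    rw [e]
    exact mul_mem (mul_mem hb' hb) (inv_mem hb')
  -- the image of a normal subgroup in `L`
  have key : ∀ C : Subgroup G, C ≤ gen σ x (arc 1 7) → (∀ y ∈ gen σ x (arc 1 7), ∀ a ∈ C, y * a * y⁻¹ ∈ C) →
      C ≤ gen σ x (arc 2 5) ∨
      ∀ l ∈ gen σ x {(1 : ZMod 12), 1 + 6}, ∃ a ∈ C, ∃ q ∈ gen σ x (arc 2 5), l = a * q := by
    intro C hC nC
    have hCn : C ≤ normalizer (gen σ x (arc 2 5) : Set G) := by
      intro c hc
      rw [mem_normalizer_iff]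
      intro y
      constructor
      · intro hy
        exact Q_normal h (hC hc) hy
      · intro hy
        have := Q_normal h (inv_mem (hC hc)) hy
        have e : c⁻¹ * (c * y * c⁻¹) * c⁻¹⁻¹ = y := by group
        rwa [e] at this
    have hsup : ∀ z, z ∈ C ⊔ gen σ x (arc 2 5) ↔ ∃ a ∈ C, ∃ q ∈ gen σ x (arc 2 5), z = a * q := by
      intro z
      rw [← SetLike.mem_coe, Subgroup.coe_mul_of_left_le_normalizer_right _ _ hCn]
      constructor
      · rintro ⟨a, ha, q, hq, e⟩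
        exact ⟨a, ha, q, hq, e.symm⟩
      · rintro ⟨a, ha, q, hq, e⟩
        exact ⟨a, ha, q, hq, e.symm⟩
    rcases L_simple h h4 (gen σ x {(1 : ZMod 12), 1 + 6} ⊓ (C ⊔ gen σ x (arc 2 5))) inf_le_left (by
      rintro l hl y ⟨hy1, hy2⟩
      refine Subgroup.mem_inf.2 ⟨mul_mem (mul_mem hl hy1) (inv_mem hl), ?_⟩
      obtain ⟨a, ha, q, hq, rfl⟩ := (hsup y).1 hy2
      have hlH := L_le h hl
      refine (hsup _).2 ⟨l * a * l⁻¹, nC l hlH a ha, l * q * l⁻¹, Q_normal h hlH hq, by group⟩) with h1 | h1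
    · left
      intro c hc
      obtain ⟨q, hq, l, hl, e⟩ := (mem_P1 h).1 (hC hc)
      have h2 : l ∈ gen σ x {(1 : ZMod 12), 1 + 6} ⊓ (C ⊔ gen σ x (arc 2 5)) := by
        refine ⟨hl, ?_⟩
        have e2 : l = q⁻¹ * c := by rw [e]; group
        rw [e2]
        exact mul_mem (Subgroup.mem_sup_right (inv_mem hq)) (Subgroup.mem_sup_left hc)
      rw [h1, Subgroup.mem_bot] at h2
      rw [e, h2, mul_one]
      exact hq
    · right
      intro l hl
      rw [← h1] at hl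
      exact (hsup l).1 hl.2
  rcases key A hA nA with h1 | h1
  · exact Or.inl h1
  rcases key B hB nB with h2 | h2
  · exact Or.inr h2
  exfalso
  have m1 : x 1 1 ∈ gen σ x {(1 : ZMod 12), 1 + 6} := x_mem_gen (Set.mem_insert _ _) (ok_one σ 1)
  have m7 : x 7 1 ∈ gen σ x {(1 : ZMod 12), 1 + 6} :=
    x_mem_gen (k := 7) (Set.mem_insert_of_mem _ (by rw [Set.mem_singleton_iff]; decide)) (ok_one σ 7)
  obtain ⟨a, ha, q, hq, e1⟩ := h1 _ m1
  obtain ⟨b, hb, q', hq', e2⟩ := h2 _ m7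
  have hc := hAB a ha b hb
  -- the commutator lies in `Q`
  have h3 : x 1 1 * x 7 1 * (x 1 1)⁻¹ * (x 7 1)⁻¹ ∈ gen σ x (arc 2 5) := by
    have e3 : x 1 1 * x 7 1 * (x 1 1)⁻¹ * (x 7 1)⁻¹ =
        (a * q * a⁻¹) * ((a * b) * (q' * (q⁻¹)) * (a * b)⁻¹) * (b * q'⁻¹ * b⁻¹) := by
      rw [e1, e2]
      have e4 : b * q' * (a * q)⁻¹ = b * (q' * q⁻¹) * a⁻¹ := by group
      calc a * q * (b * q') * (a * q)⁻¹ * (b * q')⁻¹ = a * q * (b * (q' * q⁻¹) * a⁻¹) * (b * q')⁻¹ := by group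
        _ = (a * q * a⁻¹) * ((a * b) * (q' * q⁻¹)) * (b * a)⁻¹ * (b * q'⁻¹ * b⁻¹) := by group
        _ = (a * q * a⁻¹) * ((a * b) * (q' * q⁻¹)) * (a * b)⁻¹ * (b * q'⁻¹ * b⁻¹) := by rw [hc]
        _ = _ := by group
    rw [e3]
    exact mul_mem (mul_mem (Q_normal h (hA ha) hq)
      (Q_normal h (mul_mem (hA ha) (hB hb)) (mul_mem hq' (inv_mem hq)))) (Q_normal h (hB hb) (inv_mem hq'))
  have h5 : x 1 1 * x 7 1 * (x 1 1)⁻¹ * (x 7 1)⁻¹ ∈
      gen σ x {(1 : ZMod 12), 1 + 6} ⊓ gen σ x (arc 2 5) :=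
    Subgroup.mem_inf.2 ⟨mul_mem (mul_mem (mul_mem m1 m7) (inv_mem m1)) (inv_mem m7), h3⟩
  rw [L_inf_Q h h4, Subgroup.mem_bot] at h5
  apply not_comm h
  calc x 1 1 * x 7 1 = (x 1 1 * x 7 1 * (x 1 1)⁻¹ * (x 7 1)⁻¹) * (x 7 1 * x 1 1) := by group
    _ = x 7 1 * x 1 1 := by rw [h5, one_mul]

end Cfsg.Agent.OddHalf.DblR.HexG

end

-- merged: Cfsg.Agent.OddHalf.DblR.HexG.Inst
section

/-!
# `G₂(q)`, `³D₄(q)`: the facts `Inp` of `D4/Input.lean`

`K = ⟨X_k⟩`, `S = ⟨X₁, …, X₆⟩`, `X = X₄`, `H = ⟨X₁, …, X₇⟩`, `|E| ≥ 4`.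
-/

set_option autoImplicit false
set_option maxHeartbeats 400000
set_option linter.unusedSectionVars false

namespace Cfsg.Agent.OddHalf.DblR.HexG

open Subgroup Cfsg.Agent.StdRank2.Hex Cfsg.Agent.StdRank2.Hex.HexTwo Cfsg.Agent.SplitTwo
open Cfsg.Agent.OddHalf.D4 Cfsg.Agent.OddHalf.D4.Basic
open scoped commutatorElement

universe u

section

variable {E : Type*} [Field E] {σ : E ≃+* E} {G : Type u} [Group G] {x : ZMod 12 → E → G} (h : HexTwo σ x)
include h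

theorem UU_le : UU σ x ≤ gen σ x (arc 1 7) := gen_mono (arc_mono (by norm_num))

theorem Q_two [Finite E] : IsPGroup 2 ↥(gen σ x (arc 2 5)) :=
  h.isPGroup_U.to_le (gen_mono (by
    intro l hl
    rw [mem_arc] at hl ⊢
    have : ∀ l : ZMod 12, (l - 2).val < 5 → (l - 1).val < 6 := by decide
    exact this l hl))

theorem exists_ne [Finite E] (h4 : 4 ≤ Nat.card E) : ∃ s : E, s ≠ 0 ∧ s ≠ 1 := by
  classical
  have := Fintype.ofFinite E
  rw [← Fintype.card_eq_nat_card] at h4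
  have h1 : ({0, 1} : Finset E).card < (Finset.univ : Finset E).card := by
    refine lt_of_le_of_lt Finset.card_le_two ?_
    rw [Finset.card_univ]
    omega
  obtain ⟨s, -, hs⟩ := Finset.exists_mem_notMem_of_card_lt_card h1
  simp only [Finset.mem_insert, Finset.mem_singleton, not_or] at hs
  exact ⟨s, hs.1, hs.2⟩

theorem P1_perf [Finite E] (h4 : 4 ≤ Nat.card E) :
    gen σ x (arc 1 7) ≤ ⁅gen σ x (arc 1 7), gen σ x (arc 1 7)⁆ := by
  obtain ⟨s, hs, hs1⟩ := exists_ne h h4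
  exact (Cfsg.Agent.HexStart.P1_perfect h hs hs1).ge

/-- **`H` is directly indecomposable.** -/
theorem ind [Finite E] [Finite G] (h4 : 4 ≤ Nat.card E) (A B : Subgroup G) (hA : A ≤ gen σ x (arc 1 7))
    (hB : B ≤ gen σ x (arc 1 7)) (hAB : ∀ a ∈ A, ∀ b ∈ B, a * b = b * a) (hdis : A ⊓ B = ⊥)
    (hH : ∀ y ∈ gen σ x (arc 1 7), ∃ a ∈ A, ∃ b ∈ B, y = a * b) : A = ⊥ ∨ B = ⊥ := by
  -- a factor in `Q` is trivial
  have key : ∀ A B : Subgroup G, A ≤ gen σ x (arc 1 7) → B ≤ gen σ x (arc 1 7) →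
      (∀ a ∈ A, ∀ b ∈ B, a * b = b * a) → A ⊓ B = ⊥ →
      (∀ y ∈ gen σ x (arc 1 7), ∃ a ∈ A, ∃ b ∈ B, y = a * b) → B ≤ gen σ x (arc 2 5) → B = ⊥ := by
    intro A B hA hB hAB hdis hH hBQ
    have h1 := Input.proj_perf hAB hH (P1_perf h h4) (by
      intro y hy hy'
      have : y ∈ A ⊓ B := ⟨hy, hy'⟩
      rwa [hdis, Subgroup.mem_bot] at this)
    have h2 : Input.proj hAB (gen σ x (arc 1 7)) = B := by
      apply le_antisymm
      · rintro b ⟨hb, -⟩
        exact hb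
      · intro b hb
        exact ⟨hb, 1, one_mem _, by rw [one_mul]; exact hB hb⟩
    rw [h2] at h1
    exact CoreOf.eq_bot_of_two ((Q_two h).to_le hBQ) h1
  rcases le_or_le h h4 hA hB hAB hH with h1 | h1
  · left
    refine key B A hB hA (fun b hb a ha => (hAB a ha b hb).symm) (by rw [inf_comm]; exact hdis) ?_ h1
    intro y hy
    obtain ⟨a, ha, b, hb, e⟩ := hH y hy
    exact ⟨b, hb, a, ha, by rw [e, hAB a ha b hb]⟩
  · right
    exact key A B hA hB hAB hdis hH h1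

/-- `U` is a Sylow 2-subgroup of `K` -/
theorem syl [Finite E] [Finite G] : IsSyl (UU σ x) (AA σ x) := by
  refine ⟨h.isPGroup_U, gen_le_AA _, ?_⟩
  intro Q hQ hle hQK
  obtain ⟨g, hg, hgQ⟩ := h.sylow_conj (S := AA σ x) (gen_le_AA _) le_rfl hQ hQK
  have h1 : Q.map (MulAut.conj g).toMonoidHom ≤ UU σ x := by
    rintro _ ⟨q, hq, rfl⟩
    exact hgQ q hq
  have h2 : Nat.card ↥(Q.map (MulAut.conj g).toMonoidHom) = Nat.card ↥Q :=
    (Nat.card_congr (Q.equivMapOfInjective _ (MulAut.conj g).injective).toEquiv).symm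
  have h3 := Subgroup.card_le_of_le h1
  rw [h2] at h3
  exact (Subgroup.eq_of_le_of_card_ge hle h3).ge

/-- the centraliser of an element of `X₄` -/
theorem cent_X4 [Finite E] {w y : G} (hw : w ∈ gen σ x {4}) (hw1 : w ≠ 1) (hy : y ∈ AA σ x) (hc : y * w = w * y) :
    y ∈ gen σ x (arc 1 7) := by
  obtain ⟨t, ht, rfl⟩ := h.mem_gen_singleton.1 hw
  have ht' : σ t = t := ht (by decide)
  have ht0 : t ≠ 0 := by
    rintro rfl
    exact hw1 (h.x_zero 4)
  apply (h.mem_centralizer_x4 hy ht' ht0).1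
  rw [hc]; group

/-- an element inducing the identity on all root groups -/
theorem exists_field' [Finite E] [Finite G] (hN : NotTwo σ) {c : G} (hc : c ∈ normalizer (AA σ x : Set G)) :
    ∃ g ∈ AA σ x, ∃ τ : E ≃+* E, (∀ a, τ (σ a) = σ (τ a)) ∧
      ∀ k a, Ok σ k a → (g⁻¹ * c) * x k a * (g⁻¹ * c)⁻¹ = x k (τ a) := by
  obtain ⟨g, hg, τ, hτ, e⟩ := HexK.exists_field h hN (c := c) (fun v hv => (mem_normalizer_iff.1 hc v).1 hv)
  refine ⟨g, hg, τ, hτ, fun k a ha => ?_⟩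
  have h1 := e k a ha
  calc g⁻¹ * c * x k a * (g⁻¹ * c)⁻¹ = g⁻¹ * (c * x k a * c⁻¹) * g := by group
    _ = x k (τ a) := by rw [h1]; group

/-- **perfect subgroups of `N(K)` lie in `K C(K)`** -/
theorem out_le [Finite E] [Finite G] (hN : NotTwo σ) :
    ⁅normalizer (AA σ x : Set G), normalizer (AA σ x : Set G)⁆ ≤ AA σ x ⊔ centralizer (AA σ x : Set G) := by
  rw [Subgroup.commutator_le]
  intro a ha b hb
  obtain ⟨g, hg, τ, hτ, e⟩ := exists_field' h hN ha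
  obtain ⟨g', hg', τ', hτ', e'⟩ := exists_field' h hN hb
  set a' := g⁻¹ * a with ha'
  set b' := g'⁻¹ * b with hb'
  have hok : ∀ {ρ : E ≃+* E}, (∀ a, ρ (σ a) = σ (ρ a)) → ∀ {k : ZMod 12} {a : E}, Ok σ k a → Ok σ k (ρ a) := by
    intro ρ hρ k a hk h0
    rw [← hρ, hk h0]
  -- inverses
  have inv_act : ∀ {c : G} {ρ : E ≃+* E}, (∀ a, ρ (σ a) = σ (ρ a)) →
      (∀ k a, Ok σ k a → c * x k a * c⁻¹ = x k (ρ a)) → ∀ k a, Ok σ k a → c⁻¹ * x k a * c = x k (ρ.symm a) := by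
    intro c ρ hρ hc k a hk
    have hok' : Ok σ k (ρ.symm a) := by
      intro h0
      apply ρ.injective
      rw [hρ, ρ.apply_symm_apply, hk h0]
    have h1 := hc k _ hok'
    rw [ρ.apply_symm_apply] at h1
    rw [← h1]; group
  have hcen : ⁅a', b'⁆ ∈ centralizer (AA σ x : Set G) := by
    apply HexK.mem_cent_of
    intro k y hy
    have hy1 : Ok σ k (τ'.symm y) := by
      intro h0
      apply τ'.injective
      rw [hτ', τ'.apply_symm_apply, hy h0]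
    have hy2 : Ok σ k (τ.symm (τ'.symm y)) := by
      intro h0
      apply τ.injective
      rw [hτ, τ.apply_symm_apply, hy1 h0]
    have e3 := inv_act hτ' e' k y hy
    have e4 := inv_act hτ e k _ hy1
    have e5 := e' k _ hy2
    have e6 := e k _ (hok hτ' hy2)
    have e7 : τ (τ' (τ.symm (τ'.symm y))) = y := by
      rw [field_comm τ τ' , τ.apply_symm_apply, τ'.apply_symm_apply]
    rw [commutatorElement_def]
    calc a' * b' * a'⁻¹ * b'⁻¹ * x k y * (a' * b' * a'⁻¹ * b'⁻¹)⁻¹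
        = a' * (b' * (a'⁻¹ * (b'⁻¹ * x k y * b') * a') * b'⁻¹) * a'⁻¹ := by group
      _ = x k y := by rw [e3, e4, e5, e6, e7]
  have ma : ∀ v ∈ AA σ x, a' * v * a'⁻¹ ∈ AA σ x := by
    intro v hv
    have h1 := (mem_normalizer_iff.1 ha v).1 hv
    have e8 : a' * v * a'⁻¹ = g⁻¹ * (a * v * a⁻¹) * g := by rw [ha']; group
    rw [e8]
    exact mul_mem (mul_mem (inv_mem hg) h1) hg
  have mb : ∀ v ∈ AA σ x, b' * v * b'⁻¹ ∈ AA σ x := by
    intro v hv
    have h1 := (mem_normalizer_iff.1 hb v).1 hv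
    have e8 : b' * v * b'⁻¹ = g'⁻¹ * (b * v * b⁻¹) * g' := by rw [hb']; group
    rw [e8]
    exact mul_mem (mul_mem (inv_mem hg') h1) hg'
  have ma' : ∀ v ∈ AA σ x, a'⁻¹ * v * a' ∈ AA σ x := by
    intro v hv
    have h1 := (mem_normalizer_iff.1 (inv_mem ha) (g * v * g⁻¹)).1 (mul_mem (mul_mem hg hv) (inv_mem hg))
    have e8 : a'⁻¹ * v * a' = a⁻¹ * (g * v * g⁻¹) * a⁻¹⁻¹ := by rw [ha']; group
    rw [e8]
    exact h1
  have e9 : ⁅a, b⁆ = g * (a' * g' * a'⁻¹) * (a' * (b' * (a'⁻¹ * g⁻¹ * a') * b'⁻¹) * a'⁻¹) * (⁅a', b'⁆ * g'⁻¹) := by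
    have h1 : a = g * a' := by rw [ha']; group
    have h2 : b = g' * b' := by rw [hb']; group
    rw [commutatorElement_def, commutatorElement_def]
    generalize a' = A' at h1
    generalize b' = B' at h2
    rw [h1, h2]
    group
  rw [e9]
  have m1 : g * (a' * g' * a'⁻¹) * (a' * (b' * (a'⁻¹ * g⁻¹ * a') * b'⁻¹) * a'⁻¹) ∈ AA σ x :=
    mul_mem (mul_mem hg (ma g' hg')) (ma _ (mb _ (ma' _ (inv_mem hg))))
  exact mul_mem (Subgroup.mem_sup_left m1) (mul_mem (Subgroup.mem_sup_right hcen)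
    (Subgroup.mem_sup_left (inv_mem hg')))

/-- the centralisers of involutions of `H` generate `K` -/
theorem gen_J (J : Subgroup G)
    (hJ : ∀ y ∈ gen σ x (arc 1 7), y * y = 1 → y ≠ 1 → ∀ k ∈ AA σ x, k * y = y * k → k ∈ J) : AA σ x ≤ J := by
  -- long root elements of `H`
  have key : ∀ k : ZMod 12, k.val % 2 = 0 → (k - 1).val < 7 → ∀ j : ZMod 12, (j - (k - 3)).val < 7 → ∀ a, Ok σ j a →
      x j a ∈ J := by
    intro k hk hk7 j hj a ha
    refine hJ (x k 1) (x_mem_gen (by rw [mem_arc]; exact hk7) (ok_one σ k)) (h.x_sq (ok_one σ k)) ?_ (x j a)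
      (x_mem_AA ha) ?_
    · rw [Ne, h.x_eq_one (ok_one σ k)]
      exact one_ne_zero
    · exact (h.comm_long hk hj (ok_one σ k) ha).eq.symm
  have all : ∀ j : ZMod 12, j ≠ 10 → ∀ a, Ok σ j a → x j a ∈ J := by
    intro j hj a ha
    have hc : ∀ j : ZMod 12, j ≠ 10 → (j - (2 - 3)).val < 7 ∨ (j - (6 - 3)).val < 7 := by decide
    rcases hc j hj with h1 | h1
    · exact key 2 (by decide) (by decide) j h1 a ha
    · exact key 6 (by decide) (by decide) j h1 a ha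
  -- the root `10` from `4` by the reflection at `1`
  have hnn : nn x 1 ∈ J := by
    unfold nn
    have e1 : (1 : ZMod 12) + 6 = 7 := by decide
    rw [e1]
    exact mul_mem (mul_mem (all 1 (by decide) 1 (ok_one σ 1)) (all 7 (by decide) 1 (ok_one σ 7)))
      (all 1 (by decide) 1 (ok_one σ 1))
  have hnn6 : nn x 6 ∈ J := by
    unfold nn
    have e1 : (6 : ZMod 12) + 6 = 0 := by decide
    rw [e1]
    exact mul_mem (mul_mem (all 6 (by decide) 1 (ok_one σ 6)) (all 0 (by decide) 1 (ok_one σ 0)))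
      (all 6 (by decide) 1 (ok_one σ 6))
  refine gen_le (S := Set.univ) fun j _ a ha => ?_
  by_cases hj : j = 10
  · subst hj
    have h1 := h.refl6 8 a (ha.congr (by decide))
    have e1 : (6 : ZMod 12) - 8 = 10 := by decide
    rw [e1] at h1
    rw [← h1]
    exact mul_mem (mul_mem hnn6 (all 8 (by decide) a (ha.congr (by decide)))) (inv_mem hnn6)
  · exact all j hj a ha

theorem center_eq [Finite E] {k : G} (hk : k ∈ AA σ x) (hc : k ∈ centralizer (AA σ x : Set G)) : k = 1 := by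
  apply center_eq_one h hk
  intro k a ha
  exact mul_inv_eq_iff_eq_mul.2 (mem_centralizer_iff.1 hc _ (x_mem_AA ha)).symm

/-- **The instance.** -/
theorem inp [Finite E] [Finite G] (hFT : CoreOf.FTu.{u}) (hN : NotTwo σ) (h4 : 4 ≤ Nat.card E)
    (ht : TightAt (AA σ x)) (hev : Even (Nat.card ↥(centralizer (AA σ x : Set G))))
    (hstd : ∀ g : G, ¬ ∀ k ∈ AA σ x, ∀ l ∈ CommConj.cj g (AA σ x), k * l = l * k)
    (hs : IsSimpleGroup ↥(AA σ x)) : Input.Inp (AA σ x) (UU σ x) (gen σ x {4}) (gen σ x (arc 1 7)) where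
  syl := syl h
  tight := ht
  even := hev
  ctr := fun k hk hc => center_eq h hk hc
  std := hstd
  simp := by
    intro N hN hn
    have hnorm : (N.subgroupOf (AA σ x)).Normal := by
      refine ⟨fun n hn' g => ?_⟩
      rw [mem_subgroupOf] at hn' ⊢
      exact hn g g.2 n hn'
    rcases hnorm.eq_bot_or_eq_top with h1 | h1
    · left
      rw [subgroupOf_eq_bot, disjoint_iff] at h1
      rw [← h1]
      exact (inf_eq_left.mpr hN).symm
    · right
      rw [subgroupOf_eq_top] at h1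
      exact le_antisymm hN h1
  XS := gen_mono (by rintro l rfl; rw [mem_arc]; decide)
  SH := UU_le h
  HK := gen_le_AA _
  HX := fun y hy z hz => Cfsg.Agent.HexStart.X4_comm h hz hy
  perf := P1_perf h h4
  cen := by
    intro y hy _ hc
    obtain ⟨z, hz, hz'⟩ := HexK.aut_U h hN (c := y) (fun v hv => (mem_normalizer_iff.1 hy v).1 hv)
      (fun v hv => (hc v hv).symm)
    refine ⟨z⁻¹ * y, hz', z, hz, ?_⟩
    have h1 := mem_centralizer_iff.1 hz' z (gen_le_AA _ hz)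
    rw [← h1]; group
  res := fun w hw hw1 P hP _ hc y hy => cent_X4 h hw hw1 (hP hy) (hc y hy)
  out := fun P hP hPP => hPP.trans ((Subgroup.commutator_mono hP hP).trans (out_le h hN))
  ind := ind h h4
  gen := gen_J h
  core := fun Q hQ P hP hc hp => CoreOf.core_of hFT hQ hP hc hp

end

end Cfsg.Agent.OddHalf.DblR.HexG

end
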